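import Cfsg.Agent.Lib.Lie.SpUniv.Two
import Cfsg.Agent.Lib.Lie.SLUniv.Main

/-!
# The Schur multiplier of `PSp_{2m}(q)`
-/

set_option autoImplicit false

namespace CfsgLib.Lie.SpUniv

open Matrix CfsgLib.Sp CfsgLib.Char.SpAmalgam CfsgLib.Lie.BoundedPres

universe u

variable {F : Type u} [Field F] [Fintype F] {m : ℕ}

theorem mem_center_sp_iff (hm : 1 ≤ m) (A : Spg m F) :
    A ∈ Subgroup.center (Spg m F) ↔ A.1 = 1 ∨ A.1 = -1 := by
  refine ⟨fun h => center_scalar hm fun v _ => (Subgroup.mem_center_iff.1 h _).symm,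
    fun h => Subgroup.mem_center_iff.2 fun s => Subtype.ext ?_⟩
  show s.1 * A.1 = A.1 * s.1
  rcases h with h | h <;> simp [h]

theorem card_center_sp (hm : 1 ≤ m) :
    Nat.card (Subgroup.center (Spg m F)) = Nat.gcd 2 (Fintype.card F - 1) := by
  classical
  have hq : 1 < Fintype.card F := Fintype.one_lt_card
  by_cases h2 : (2 : F) = 0
  · have hev : Fintype.card F % 2 = 0 :=
      FiniteField.even_card_iff_char_two.1 (CharP.ringChar_of_prime_eq_zero Nat.prime_two (by exact_mod_cast h2))
    have hg : Nat.gcd 2 (Fintype.card F - 1) = 1 :=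
      (Nat.prime_two.coprime_iff_not_dvd).2 (by omega)
    rw [hg]
    have e : Subgroup.center (Spg m F) = ⊥ := by
      rw [Subgroup.eq_bot_iff_forall]
      intro A hA
      rcases (mem_center_sp_iff hm A).1 hA with h | h
      · exact Subtype.ext h
      · refine Subtype.ext (h.trans ?_)
        show (-1 : Matrix _ _ F) = 1
        ext i j
        rw [Matrix.neg_apply]
        linear_combination (-(1 : Matrix (Fin m ⊕ Fin m) (Fin m ⊕ Fin m) F) i j) * h2
    rw [e, Subgroup.card_bot]
  · have hod : Fintype.card F % 2 = 1 := FiniteField.odd_card_of_char_ne_two fun h => h2 (by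
      haveI : CharP F 2 := h ▸ ringChar.charP F
      exact_mod_cast CharP.cast_eq_zero F 2)
    rw [show Nat.gcd 2 (Fintype.card F - 1) = 2 from Nat.gcd_eq_left (by omega)]
    let N : Spg m F := ⟨-1, SymplecticGroup.neg_mem (one_mem _)⟩
    rw [Nat.card_eq_two_iff]
    refine ⟨1, ⟨N, (mem_center_sp_iff hm N).2 (Or.inr rfl)⟩, fun e => h2 ?_, ?_⟩
    · have e' : (1 : Matrix (Fin m ⊕ Fin m) (Fin m ⊕ Fin m) F) = -1 :=
        congrArg (fun x : Subgroup.center (Spg m F) => x.1.1) e
      have := congrFun (congrFun e' (.inl ⟨0, hm⟩)) (.inl ⟨0, hm⟩)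
      rw [Matrix.neg_apply, Matrix.one_apply_eq] at this
      linear_combination this
    · rw [Set.eq_univ_iff_forall]
      rintro ⟨A, hA⟩
      rcases (mem_center_sp_iff hm A).1 hA with h | h
      · exact Or.inl (Subtype.ext (Subtype.ext h))
      · exact Or.inr (Subtype.ext (Subtype.ext h))

/-- finite central extensions of `Sp_{2m}(q)` split outside the exceptions -/
theorem exists_section_sp (hm : 2 ≤ m) (h2 : m = 2 → 3 ≤ Fintype.card F)
    (hexc : ¬ (m = 3 ∧ Fintype.card F = 2)) {P : Type*} [Group P] (p : P →* Spg m F)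
    (hp : Function.Surjective p) (hc : p.ker ≤ Subgroup.center P) :
    ∃ s : Spg m F →* P, p.comp s = MonoidHom.id _ := by
  have hq : 1 < Fintype.card F := Fintype.one_lt_card
  rcases eq_or_lt_of_le hm with e | e
  · subst e
    exact exists_section_four (h2 rfl) p hp hc
  · rcases (Nat.lt_or_ge (Fintype.card F) 3) with hlt | hge
    · refine exists_section_two (by omega) hp hc ?_
      have : m ≠ 3 := fun e3 => hexc ⟨e3, by omega⟩
      omega
    · exact exists_section_large hge hp hc hm

/-- the multiplier of `PSp_{2m}(q)` -/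
theorem psp_multiplier (hm : 2 ≤ m) (h2 : m = 2 → 3 ≤ Fintype.card F)
    (hexc : ¬ (m = 3 ∧ Fintype.card F = 2)) :
    Cfsg.HasCyclicSchurMultiplier (Cfsg.PSp m F) (Nat.gcd 2 (Fintype.card F - 1)) := by
  classical
  have hq : 1 < Fintype.card F := Fintype.one_lt_card
  have hperf : commutator (Spg m F) = ⊤ := CfsgLib.Classical.commutator_symplectic (by
    rcases eq_or_lt_of_le hm with e | e
    · exact Or.inr (Or.inl ⟨e.symm, h2 e.symm⟩)
    · exact Or.inl e)
  have hst : Cfsg.IsStemExtension (QuotientGroup.mk' (Subgroup.center (Spg m F))) :=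
    ⟨QuotientGroup.mk'_surjective _, by rw [QuotientGroup.ker_mk'], by rw [hperf]; exact le_top⟩
  haveI : Finite (Spg m F) := Finite.of_injective (fun A => A.1) Subtype.val_injective
  refine SLUniv.hasSchurMultiplier_of_split hst
    (fun P _ _ p hp hc => exists_section_sp hm h2 hexc p hp hc) ?_
  have hcard := card_center_sp (F := F) (m := m) (by omega)
  haveI : IsCyclic (Subgroup.center (Spg m F)) := by
    rcases (Nat.dvd_prime Nat.prime_two).1 (Nat.gcd_dvd_left 2 (Fintype.card F - 1)) with e | e
    · haveI : Subsingleton (Subgroup.center (Spg m F)) := (Nat.card_eq_one_iff_unique.1 (hcard.trans e)).1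
      infer_instance
    · haveI := Fact.mk Nat.prime_two
      exact isCyclic_of_prime_card (hcard.trans e)
  exact (MulEquiv.subgroupCongr (QuotientGroup.ker_mk' _)).trans
    ((zmodCyclicMulEquiv inferInstance).symm.trans
      (MulEquiv.cast (M := fun k => Multiplicative (ZMod k)) hcard))

end CfsgLib.Lie.SpUniv
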