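import Cfsg.Agent.Lib.Lie.SLUniv.Basic
import Cfsg.Agent.Lib.Lie.BoundedPres.SpRel

/-!
# Consistent copies of `Sp₄(F)` inside a central extension of `Sp_{2n}(F)`

Lifts of elements with disjoint supports commute and the copies are moved to each other by lifts of
transpositions; the rest of the conditions of the amalgam follow, up to one relation on three pairs.
-/

set_option autoImplicit false

namespace CfsgLib.Lie.SpUniv

open Matrix CfsgLib.Sp CfsgLib.Char.SpAmalgam CfsgLib.Lie.BoundedPres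
open scoped commutatorElement

attribute [-simp] Matrix.mulVec_single_one Matrix.mulVec_single

variable {F : Type*} [Field F] {n : ℕ} {Γ : Type*} [Group Γ]

/-- elements of disjoint supports commute -/
theorem commute_ext2 {a b : Fin n} (hab : a ≠ b) (A : Spg 2 F) {Y : Spg n F}
    (ha : Y.1 *ᵥ lv a = lv a ∧ Y.1 *ᵥ rv a = rv a) (hb : Y.1 *ᵥ lv b = lv b ∧ Y.1 *ᵥ rv b = rv b) :
    Commute (ext2 a b A) Y := by
  have hY : ∀ y : Vs 2 F, Y.1 *ᵥ push a b y = push a b y := fun y => by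
    simp only [push, LinearMap.coe_mk, AddHom.coe_mk, Matrix.mulVec_add, Matrix.mulVec_smul, ha.1, ha.2,
      hb.1, hb.2]
  have hpull : ∀ v : Vs n F, pull a b (Y.1 *ᵥ v) = pull a b v := fun v => by
    have hk : ∀ j, Y.1 *ᵥ lv j = lv j ∧ Y.1 *ᵥ rv j = rv j →
        (Y.1 *ᵥ v) (.inr j) = v (.inr j) ∧ (Y.1 *ᵥ v) (.inl j) = v (.inl j) := fun j hj => by
      constructor
      · rw [← sf_lv (Y.1 *ᵥ v) j, ← hj.1, sf_sp, sf_lv]
      · rw [← neg_inj, ← sf_rv (Y.1 *ᵥ v) j, ← hj.2, sf_sp, sf_rv]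
    funext x
    rcases x with i | i <;> fin_cases i
    exacts [(hk a ha).2, (hk b hb).2, (hk a ha).1, (hk b hb).1]
  refine sp_ext_vec fun v => ?_
  rw [sp_mul_mulVec, sp_mul_mulVec, ext2_apply hab, ext2_apply hab, Matrix.mulVec_add, hY, hpull]

/-- elements on other pairs commute -/
theorem commute_ext2_inS {a b c : Fin n} (hab : a ≠ b) (hca : c ≠ a) (hcb : c ≠ b) (A : Spg 2 F)
    {Y : Spg n F} (hY : InS c Y) : Commute (ext2 a b A) Y :=
  commute_ext2 hab A (hY a hca.symm) (hY b hcb.symm)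

/-- a transposition lives on two pairs -/
theorem exists_ext2_swap {b c : Fin n} (hbc : b ≠ c) :
    ∃ B : Spg 2 F, ext2 b c B = spPerm (Equiv.swap b c) := by
  refine exists_ext2 hbc fun j hb hc => ?_
  rw [spPerm_lv, spPerm_rv, Equiv.swap_apply_of_ne_of_ne hb hc]
  exact ⟨rfl, rfl⟩

/-- the copies and what is known about them -/
structure Hyp (p : Γ →* Spg n F) (Ψ : Fin n → Fin n → (Spg 2 F →* Γ)) : Prop where
  surj : Function.Surjective p
  cen : p.ker ≤ Subgroup.center Γ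
  hπ : ∀ a b, a ≠ b → ∀ A, p (Ψ a b A) = ext2 a b A
  flip : ∀ a b, a ≠ b → ∀ A, Ψ b a A = Ψ a b (flip2 A)
  dis : ∀ a b c, a ≠ b → c ≠ a → c ≠ b → ∀ (A : Spg 2 F) (x y : Γ),
    p x = ext2 a b A → InS c (p y) → Commute x y
  quad : ∀ a b c d, a ≠ b → c ≠ d → a ≠ c → a ≠ d → b ≠ c → b ≠ d → ∀ (A B : Spg 2 F) (x y : Γ),
    p x = ext2 a b A → p y = ext2 c d B → Commute x y
  swp : ∀ a b c, a ≠ b → a ≠ c → b ≠ c → ∀ w : Γ, p w = spPerm (Equiv.swap b c) →
    ∀ A, w * Ψ a b A * w⁻¹ = Ψ a c A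

namespace Hyp

variable {p : Γ →* Spg n F} {Ψ : Fin n → Fin n → (Spg 2 F →* Γ)} (H : Hyp p Ψ)
include H

theorem share {a b c : Fin n} (hab : a ≠ b) (hac : a ≠ c) {A : Spg 2 F} (hA : InS 0 A) :
    Ψ a b A = Ψ a c A := by
  by_cases hbc : b = c
  · rw [hbc]
  obtain ⟨w, hw⟩ := H.surj (spPerm (Equiv.swap b c))
  obtain ⟨B, hB⟩ := exists_ext2_swap (F := F) hbc
  have hy : InS a (p (Ψ a b A)) := by rw [H.hπ a b hab]; exact ext2_inS hab hA
  rw [← H.swp a b c hab hac hbc w hw A,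
    (H.dis b c a hbc hab hac B w _ (hw.trans hB.symm) hy).eq, mul_inv_cancel_right]

theorem comS {a b c : Fin n} (hab : a ≠ b) (hca : c ≠ a) (hcb : c ≠ b) (A : Spg 2 F) {B : Spg 2 F}
    (hB : InS 0 B) : Commute (Ψ a b A) (Ψ c a B) :=
  H.dis a b c hab hca hcb A _ _ (H.hπ a b hab A) (by rw [H.hπ c a hca]; exact ext2_inS hca hB)

/-- a short root element commutes with the unipotent elements of a copy sharing a pair -/
theorem comM_share {a b d : Fin n} (hab : a ≠ b) (had : a ≠ d) (hbd : b ≠ d) {A B : Spg 2 F}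
    (hA : InM 0 A) (hB : InM 0 B) : Commute (Ψ a b A) (Ψ a d B) := by
  obtain ⟨A₀, C, A₁, h0, hC, h1, rfl⟩ := exists_form_inM_two hA
  have cS : ∀ D : Spg 2 F, InS 0 (flip2 D) → Commute (Ψ a b D) (Ψ a d B) := fun D hD => by
    rw [← flip2_flip2 D, ← H.flip a b hab]
    exact (H.comS had hab.symm hbd B hD).symm
  have c0 : Commute (Ψ a b A₀) (Ψ a d B) := by
    rw [H.share hab had h0.1]
    exact (inM_commute h0.2 hB).map _
  rw [map_mul, map_mul]
  refine (c0.mul_left ?_).mul_left (cS A₁ h1.1)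
  rcases hC with rfl | ⟨e, he, rfl⟩
  · rw [map_one]; exact Commute.one_left _
  suffices hX : Commute (Ψ a b X2) (Ψ a d B) by
    rw [map_mul, map_mul, map_inv]
    exact ((cS e he).mul_left hX).mul_left (cS e he).inv_left
  -- a commutator of a long root element with one moving the second vector
  have hs : InS 0 (flip2 (tv (lv 1) 1 : Spg 2 F)) := by
    refine inS_flip.2 ?_
    rw [flip2_flip2]
    intro k hk
    obtain rfl : k = 0 := by omega
    simp only [tv_mulVec, sf_lv, sf_rv]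
    constructor <;> simp [lv, rv]
  have h0' : InS 0 (tv (lv 0) (-1) : Spg 2 F) := by
    intro k hk
    obtain rfl : k = 1 := by omega
    simp only [tv_mulVec, sf_lv, sf_rv]
    constructor <;> simp [lv, rv]
  have hm0 : InM 0 (tv (lv 0) (-1) : Spg 2 F) := by
    refine ⟨fun k => ?_, fun k hk hk' => absurd k.isLt (by omega)⟩
    simp only [tv_mulVec, sf_lv]
    simp [lv]
  have eX : (X2 : Spg 2 F) = tv (lv 0) (-1) * ⁅(flip2 L2 : Spg 2 F), tv (lv 1) (1 : F)⁆ := by
    rw [X2, kv, commutatorElement_def, tv_conj, flip2_L2_lv.2,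
      show (tv (lv 1) (1 : F) : Spg 2 F)⁻¹ = tv (lv 1) (-1) from
        inv_eq_of_mul_eq_one_right (by rw [tv_mul, add_neg_cancel, tv_zero]), add_comm (lv 1 : Vs 2 F),
      ← mul_assoc, (tv_commute (v := (lv 0 : Vs 2 F)) (w := lv 0 + lv 1)
        (by rw [sf_add_right, sf_lv_lv, sf_lv_lv, add_zero]) (-1) 1).eq]
  rw [eX, map_mul, map_commutatorElement]
  have cA : Commute (Ψ a b (tv (lv 0) (-1))) (Ψ a d B) := by
    rw [H.share hab had h0']
    exact (inM_commute hm0 hB).map _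
  refine cA.mul_left ?_
  refine (SLUniv.commute_comm H.cen ?_ ?_).symm
  · rw [H.hπ a b hab, H.hπ a d had]
    have hg := flip2_L2_lv (F := F)
    have hr : (flip2 L2 : Spg 2 F).1 *ᵥ rv 1 = rv 1 ∧ (flip2 L2 : Spg 2 F).1 *ᵥ rv 0 = rv 0 - rv 1 := by
      have h : sf (rv (1 : Fin 2) : Vs 2 F) (lv 0) = 0 := by rw [sf_lv]; simp [rv]
      have e : (flip2 L2 : Spg 2 F) = kv (rv 1) (lv 0) (-1) := by
        rw [show flip2 L2 = spPerm (Equiv.swap (0 : Fin 2) 1) * L2 * (spPerm (Equiv.swap (0 : Fin 2) 1))⁻¹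
          from rfl, L2_eq, kv_conj _ _ _ (by rw [sf_lv]; simp [rv]), spPerm_rv, spPerm_lv,
          Equiv.swap_apply_left, Equiv.swap_apply_right]
      rw [e, kv_mulVec _ _ h, kv_mulVec _ _ h, sf_rv, sf_lv, sf_rv, sf_lv]
      constructor <;> simp [rv, sub_eq_add_neg]
    refine sp_ext_basis fun j => ?_
    have hlb : ∀ k : Fin 2, (lv (![a, b] k) : Vs n F) = push a b (lv k) := fun k => (push_lv a b k).symm
    have hrb : ∀ k : Fin 2, (rv (![a, b] k) : Vs n F) = push a b (rv k) := fun k => (push_rv a b k).symm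
    have g1 : (ext2 a b (flip2 L2 : Spg 2 F)).1 *ᵥ (lv a : Vs n F) = lv a ∧
        (ext2 a b (flip2 L2 : Spg 2 F)).1 *ᵥ (lv b : Vs n F) = lv b + lv a ∧
        (ext2 a b (flip2 L2 : Spg 2 F)).1 *ᵥ (rv b : Vs n F) = rv b ∧
        (ext2 a b (flip2 L2 : Spg 2 F)).1 *ᵥ (rv a : Vs n F) = rv a - rv b := by
      refine ⟨?_, ?_, ?_, ?_⟩
      · rw [show (lv a : Vs n F) = push a b (lv 0) from hlb 0, ext2_push hab, hg.1]
      · rw [show (lv b : Vs n F) = push a b (lv 1) from hlb 1, ext2_push hab, hg.2, map_add, push_lv a b 0]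
        rfl
      · rw [show (rv b : Vs n F) = push a b (rv 1) from hrb 1, ext2_push hab, hr.1]
      · rw [show (rv a : Vs n F) = push a b (rv 0) from hrb 0, ext2_push hab, hr.2, map_sub, push_rv a b 1]
        rfl
    obtain ⟨g11, g12, g13, g14⟩ := g1
    have gd := ext2_fix hab (flip2 L2 : Spg 2 F) had.symm hbd.symm
    set X := ext2 a d B
    set g := ext2 a b (flip2 L2 : Spg 2 F)
    have Xb := ext2_fix had B hab.symm hbd
    have Xl : ∀ j, X.1 *ᵥ (lv j : Vs n F) = lv j := fun j => by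
      by_cases hja : j = a
      · rw [hja, show (lv a : Vs n F) = push a d (lv 0) from (push_lv a d 0).symm, ext2_push had, hB.1]
      by_cases hjd : j = d
      · rw [hjd, show (lv d : Vs n F) = push a d (lv 1) from (push_lv a d 1).symm, ext2_push had, hB.1]
      exact (ext2_fix had B hja hjd).1
    -- the images of the right vectors differ from them by vectors fixed by the other element
    have Xr : ∀ k : Fin 2, ∃ w : Vs n F, g.1 *ᵥ w = w ∧
        X.1 *ᵥ (rv (![a, d] k) : Vs n F) = rv (![a, d] k) + w := fun k => by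
      refine ⟨push a d (B.1 *ᵥ rv k - rv k), ?_, ?_⟩
      · have hz : ∀ i, (B.1 *ᵥ rv k - rv k : Vs 2 F) (.inr i) = 0 := fun i => by
          have h := sf_sp B (rv k) (lv i)
          rw [hB.1, sf_lv, sf_lv] at h
          rw [Pi.sub_apply, h, sub_self]
        simp only [push, LinearMap.coe_mk, AddHom.coe_mk, hz, zero_smul, add_zero, Matrix.mulVec_add,
          Matrix.mulVec_smul, g11, gd.1]
      · rw [show (rv (![a, d] k) : Vs n F) = push a d (rv k) from (push_rv a d k).symm, ext2_push had,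
          map_sub, add_sub_cancel]
    rw [sp_mul_mulVec, sp_mul_mulVec, sp_mul_mulVec, sp_mul_mulVec, Xl]
    by_cases hja : j = a
    · obtain ⟨w, hw, hXw⟩ := Xr 0
      simp only [Matrix.cons_val_zero] at hXw
      rw [hja, g11, Xl, g14, Matrix.mulVec_sub, hXw, Xb.2, Matrix.mulVec_add, hw, g14]
      exact ⟨rfl, by abel⟩
    by_cases hjb : j = b
    · rw [hjb, g12, Matrix.mulVec_add, Xl, Xl, g13, Xb.2, g13]
      exact ⟨rfl, rfl⟩
    have gj := ext2_fix hab (flip2 L2 : Spg 2 F) hja hjb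
    rw [gj.1, gj.2, Xl]
    refine ⟨rfl, ?_⟩
    by_cases hjd : j = d
    · obtain ⟨w, hw, hXw⟩ := Xr 1
      simp only [Matrix.cons_val_one, Matrix.cons_val_zero] at hXw
      rw [hjd, hXw, Matrix.mulVec_add, hw, gd.2]
    · rw [(ext2_fix had B hja hjd).2, gj.2]
  · rw [← flip2_flip2 (tv (lv 1) 1 : Spg 2 F), ← H.flip a b hab, H.hπ b a hab.symm, H.hπ a d had]
    exact commute_ext2_inS had hab.symm hbd B (ext2_inS hab.symm hs)

theorem comM {a b c d : Fin n} (hab : a ≠ b) (hcd : c ≠ d) {A B : Spg 2 F} (hA : InM 0 A)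
    (hB : InM 0 B) : Commute (Ψ a b A) (Ψ c d B) := by
  by_cases hac : a = c
  · subst hac
    by_cases hbd : b = d
    · subst hbd; exact (inM_commute hA hB).map _
    · exact H.comM_share hab hcd hbd hA hB
  by_cases had : a = d
  · subst had
    rw [H.flip a c hcd.symm]
    by_cases hbc : b = c
    · subst hbc; exact (inM_commute hA (inM_flip hB)).map _
    · exact H.comM_share hab hcd.symm hbc hA (inM_flip hB)
  by_cases hbc : b = c
  · subst hbc
    rw [H.flip b a hab.symm]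
    exact H.comM_share hab.symm hcd had (inM_flip hA) hB
  by_cases hbd : b = d
  · subst hbd
    rw [H.flip b a hab.symm, H.flip b c hcd.symm]
    exact H.comM_share hab.symm hcd.symm hac (inM_flip hA) (inM_flip hB)
  exact H.quad a b c d hab hcd hac had hbc hbd A B _ _ (H.hπ a b hab A) (H.hπ c d hcd B)

theorem spFam (htri : ∀ a b c, a ≠ b → a ≠ c → b ≠ c →
    Ψ a b X2 * Ψ a c X2 = Ψ b c L2 * Ψ a b X2 * (Ψ b c L2)⁻¹) : SpFam p Ψ where
  hπ := H.hπ
  flip := H.flip
  share _ _ _ hab hac _ hA := H.share hab hac hA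
  comS _ _ _ hab hca hcb A _ _ hB := H.comS hab hca hcb A hB
  comM _ _ _ _ hab hcd _ _ hA hB := H.comM hab hcd hA hB
  tri := htri

end Hyp

/-- consistent copies give a section -/
theorem exists_section_of_fam {p : Γ →* Spg n F} {Ψ : Fin n → Fin n → (Spg 2 F →* Γ)}
    (hn : 2 ≤ n) (R : SpFam p Ψ) : ∃ s : Spg n F →* Γ, p.comp s = MonoidHom.id _ := by
  set K := famK hn Ψ
  have hinj : Function.Injective (p.comp K.subtype) := fun x y e => Subtype.ext (R.injOn hn x.2 y.2 e)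
  have hsur : Function.Surjective (p.comp K.subtype) := by
    rw [← MonoidHom.range_eq_top, MonoidHom.range_comp, Subgroup.range_subtype, eq_top_iff,
      ← closure_gens n, Subgroup.closure_le]
    rintro A (⟨j, hj⟩ | ⟨i, hi, hA⟩)
    · have ho := ne_oth hn j
      obtain ⟨B, hB⟩ := exists_ext2 ho fun k hk _ => hj k hk
      exact ⟨Ψ j _ B, R.range_le_famK hn ho ⟨B, rfl⟩, (R.hπ _ _ ho B).trans hB⟩
    · set a : Fin n := ⟨i, by omega⟩
      set b : Fin n := ⟨i + 1, hi⟩
      have ho : a ≠ b := by simp [a, b, Fin.ext_iff]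
      obtain ⟨B, hB⟩ := exists_ext2 ho fun k hka hkb => ⟨hA.1 k, hA.2 k
        (fun e => hka (Fin.ext e)) (fun e => hkb (Fin.ext e))⟩
      exact ⟨Ψ a b B, R.range_le_famK hn ho ⟨B, rfl⟩, (R.hπ _ _ ho B).trans hB⟩
  refine ⟨K.subtype.comp (MulEquiv.ofBijective _ ⟨hinj, hsur⟩).symm.toMonoidHom, MonoidHom.ext fun x => ?_⟩
  exact (MulEquiv.ofBijective (p.comp K.subtype) ⟨hinj, hsur⟩).apply_symm_apply x

end CfsgLib.Lie.SpUniv
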