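import Cfsg.Agent.Lib.Lie.ShortPres.B2Main
import Cfsg.Agent.Lib.Lie.Chev.Univ.AllE
import Cfsg.Agent.Lib.Lie.Chev.Univ.StMult
import Cfsg.Agent.Lib.Lie.Chev.Univ.ThreeB2

/-!
# Central extensions of `Sp₄(F)` split for fields with at least three elements

The Steinberg cover of type `B₂` is `Sp₄(F)`, and that cover is universal.
-/

set_option autoImplicit false
set_option maxRecDepth 100000

namespace CfsgLib.Lie.SpUniv

open Polynomial CfsgLib.Lie.ShortPres CfsgLib.Lie.ShortPres.BTwo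

variable {F : Type*} [Field F] [Fintype F]

/-- the six standard elements generate -/
theorem gens_closure {p : ℕ} [hp : Fact p.Prime] [Algebra (ZMod p) F] {P : Prm p} {ω : Fˣ}
    (hP : P.Ok (ω : F)) (S : Subgroup (Matrix.symplecticGroup (Fin 2) F)) (hS : ∀ i, gens ω i ∈ S) :
    S = ⊤ := by
  have mu : xm 5 (1 : F) ∈ S := hS 0
  have mt : (wA : Matrix.symplecticGroup (Fin 2) F) ∈ S := hS 1
  have mv : xm 4 (1 : F) ∈ S := hS 2
  have ms : (wB : Matrix.symplecticGroup (Fin 2) F) ∈ S := hS 3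
  have md : tm ω 1 ∈ S := hS 4
  have me : tm 1 ω ∈ S := hS 5
  have cj : ∀ {a b}, a ∈ S → b ∈ S → a * b * a⁻¹ ∈ S := fun ha hb => mul_mem (mul_mem ha hb) (inv_mem ha)
  have hx5 : ∀ c, xm 5 c ∈ S := by
    intro c
    refine forall_of_generated (p := p) (ω : F) hP.gen (fun c => xm 5 c ∈ S) ?_ mu ?_ ?_ c
    · rw [xm_zero (by norm_num)]; exact one_mem _
    · intro a b ha hb; rw [xm_add (by norm_num)]; exact mul_mem ha hb
    · intro a ha
      have := cj md ha
      rw [tm_conj _ _ (by norm_num)] at this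
      simpa [wt] using this
  have hx4 : ∀ c, xm 4 c ∈ S := by
    intro c
    refine forall_of_generated (p := p) ((ω : F) ^ 2) hP.gen2 (fun c => xm 4 c ∈ S) ?_ mv ?_ ?_ c
    · rw [xm_zero (by norm_num)]; exact one_mem _
    · intro a b ha hb; rw [xm_add (by norm_num)]; exact mul_mem ha hb
    · intro a ha
      have := cj me ha
      rw [tm_conj _ _ (by norm_num)] at this
      simpa [wt, sq, mul_assoc] using this
  have hA : ∀ r, r < 8 → (∀ c, xm r c ∈ S) → ∀ c, xm (piA r) c ∈ S := by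
    intro r hr h c
    have := cj mt (h (-c))
    rw [wA_conj hr] at this
    simpa [etA] using this
  have hB : ∀ r, r < 8 → (∀ c, xm r c ∈ S) → ∀ c, xm (piB r) c ∈ S := by
    intro r hr h c
    have := cj ms (h ((etB r : F) * c))
    rw [wB_conj hr, ← mul_assoc, eta_cast etB_sq, one_mul] at this
    exact this
  have h2 := hA 5 (by norm_num) hx5
  have h7 := hA 4 (by norm_num) hx4
  have h6 := hB 5 (by norm_num) hx5
  have h3 := hB 4 (by norm_num) hx4
  have h1 := hB 2 (by norm_num) h2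
  have h0 := hA 3 (by norm_num) h3
  refine eq_top_of_mem (fun r hr => ?_) fun a => ?_
  · interval_cases r
    exacts [h0, h1, h2, h3, hx4, hx5, h6, h7]
  · obtain ⟨k, hk⟩ := hP.prim a a.ne_zero
    have hk' : ω ^ k = a := Units.ext (by rw [Units.val_pow_eq_pow_val, hk])
    have := pow_mem md k
    rwa [tm_pow, one_pow, hk'] at this

/-- the cover of type `B₂` is the symplectic group -/
theorem exists_cover_equiv :
    Nonempty (Cfsg.Lie.chevB2.SteinbergCover F ≃* Matrix.symplecticGroup (Fin 2) F) := by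
  classical
  obtain ⟨n, hr, hn⟩ := FiniteField.card F (ringChar F)
  haveI := Fact.mk hr
  haveI : CharP F (ringChar F) := ringChar.charP F
  letI : Algebra (ZMod (ringChar F)) F := ZMod.algebra F _
  obtain ⟨P, ω₀, hP⟩ := exists_prm (F := F) hn
  obtain ⟨ω, rfl⟩ : ∃ ω : Fˣ, (ω : F) = ω₀ := ⟨Units.mk0 ω₀ hP.ne_zero, rfl⟩
  obtain ⟨φ, hu, ht, hv, hs, hd, he⟩ := exists_hom_of_eqs hP
    (eqs_gens (P := P) (ω := ω) ⟨hP.hμ, hP.hμ', hP.hgi, hP.hg2, hP.hg1, hP.hgj, fun h => ⟨hP.hk0 h, hP.hk h⟩⟩)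
  have hφ : Function.Surjective φ := by
    rw [← MonoidHom.range_eq_top]
    refine gens_closure hP _ fun i => ?_
    fin_cases i
    exacts [hu, ht, hv, hs, hd, he]
  obtain ⟨hfin, hle⟩ := cover_finite_le F
  haveI := hfin
  exact ⟨MulEquiv.ofBijective φ ((Nat.bijective_iff_surjective_and_card φ).2
    ⟨hφ, le_antisymm hle (Nat.card_le_card_of_surjective φ hφ)⟩)⟩

open CfsgLib.Lie.Chev Cfsg.Lie in
/-- central extensions of `Sp₄(F)` split -/
theorem exists_section_four (h3 : 3 ≤ Fintype.card F) {P : Type*} [Group P]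
    (p : P →* Matrix.symplecticGroup (Fin 2) F) (hp : Function.Surjective p)
    (hc : p.ker ≤ Subgroup.center P) :
    ∃ s : Matrix.symplecticGroup (Fin 2) F →* P, p.comp s = MonoidHom.id _ := by
  classical
  obtain ⟨e⟩ := exists_cover_equiv (F := F)
  have hD : chevB2 ∈ [chevG2, chevB2, chevD4, chevF4, chevE6, chevE7, chevE8] := by simp
  let C : Full chevB2 := fullOf hD
  have hperf : commutator (chevB2.SteinbergCover F) = ⊤ := by
    refine CoverPerfect.cover_perfect chevB2 hD fun _ => ?_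
    obtain ⟨c, hc⟩ := Univ.exists_pow_ne (K := F) (n := 1) one_pos
      ⟨Finset.univ, by rw [Finset.card_univ]; omega⟩
    exact ⟨c, c.ne_zero, fun e => hc (by rw [Nat.cast_one, zpow_one]; exact Units.ext e)⟩
  obtain ⟨τ, hτ, -⟩ := Univ.universal C (hasPair_tab hD C) hperf hp hc e.toMonoidHom (by
    rcases eq_or_lt_of_le h3 with h | h
    · exact Univ.B2Three.exists_hom h.symm C _
    · exact (Univ.torusData_four (by simp) C ⟨Finset.univ, by rw [Finset.card_univ]; omega⟩ _).exists_hom)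
  refine ⟨τ.comp e.symm.toMonoidHom, MonoidHom.ext fun x => ?_⟩
  show p (τ (e.symm x)) = x
  rw [← MonoidHom.comp_apply, hτ]
  exact e.apply_symm_apply x

end CfsgLib.Lie.SpUniv
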