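import Cfsg.Agent.Lib.Lie.SpUniv.Fam
import Cfsg.Agent.Lib.Lie.SpUniv.Four
import Cfsg.Agent.Lib.Classical.PSpSimple

/-!
# Central extensions of `Sp_{2n}(F)` split for fields with at least three elements

The copies of `Sp₄(F)` lift uniquely, and the one relation left on three pairs follows by moving it
with a diagonal element.
-/

set_option autoImplicit false

namespace CfsgLib.Lie.SpUniv

open Matrix CfsgLib.Sp CfsgLib.Char.SpAmalgam CfsgLib.Lie.BoundedPres
open scoped commutatorElement

attribute [-simp] Matrix.mulVec_single_one Matrix.mulVec_single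

section Lifts

variable {P Q S : Type*} [Group P] [Group Q] [Group S] {p : P →* Q}

/-- lifts of a homomorphism from a perfect group are unique -/
theorem hom_unique (hc : p.ker ≤ Subgroup.center P) (hS : commutator S = ⊤) {f g : S →* P}
    (h : ∀ x, p (f x) = p (g x)) : f = g := by
  refine MonoidHom.eq_of_eqOn_dense (s := commutatorSet S) (by rw [← commutator_eq_closure, hS]) ?_
  rintro _ ⟨a, b, rfl⟩
  rw [map_commutatorElement, map_commutatorElement]
  exact SLUniv.comm_congr hc (h a) (h b)

/-- a lift of a perfect group commutes with whatever commutes with its image -/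
theorem commute_perfect (hc : p.ker ≤ Subgroup.center P) (hS : commutator S = ⊤) (f : S →* P) {y : P}
    (h : ∀ x, Commute (p (f x)) (p y)) (x : S) : Commute (f x) y := by
  have e : ((MulAut.conj y).toMonoidHom.comp f) = f := hom_unique hc hS fun z => by
    show p (y * f z * y⁻¹) = p (f z)
    rw [map_mul, map_mul, map_inv, ← (h z).eq, mul_inv_cancel_right]
  have e' : y * f x * y⁻¹ = f x := DFunLike.congr_fun e x
  exact (mul_inv_eq_iff_eq_mul.1 e').symm

end Lifts

variable {F : Type*} [Field F] {n : ℕ} {P : Type*} [Group P] {p : P →* Spg n F}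

/-- the symmetric short root subgroup -/
noncomputable def xT (t : F) : Spg 2 F := kv (lv 0) (lv 1) t

theorem xT_one : xT (1 : F) = X2 := rfl

theorem xT_add (s t : F) : xT (s + t) = xT s * xT t := by
  refine sp_ext_vec fun x => ?_
  simp only [xT, sp_mul_mulVec, kv_mulVec _ _ (sf_lv_lv 0 1), sf_add_left, sf_smul_left, sf_lv_lv, mul_zero,
    add_zero]
  module

theorem inM_xT (t : F) : InM 0 (xT t : Spg 2 F) := inM_kv t

theorem xT_scale (c : Fˣ) (t : F) :
    (spDiag (Pi.mulSingle 0 c) : Spg 2 F) * xT t * (spDiag (Pi.mulSingle 0 c))⁻¹ = xT ((c : F) * t) := by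
  rw [xT, xT, kv_conj _ _ _ (sf_lv_lv 0 1), spDiag_lv, spDiag_lv]
  simp only [Pi.mulSingle_eq_same, Pi.mulSingle_eq_of_ne (show (1 : Fin 2) ≠ 0 by decide),
    Units.val_one, one_smul]
  refine sp_ext_vec fun x => ?_
  rw [kv_mulVec _ _ (by rw [sf_smul_left, sf_lv_lv, mul_zero]), kv_mulVec _ _ (sf_lv_lv 0 1), sf_smul_right]
  module

theorem inS_diag (c : Fˣ) : InS 0 (spDiag (Pi.mulSingle 0 c) : Spg 2 F) := by
  intro k hk
  obtain rfl : k = 1 := by omega
  simp only [spDiag_lv, spDiag_rv]
  simp

/-- the exchange of the first pair with a shear on the other two -/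
theorem L2_conj_kv {a b c : Fin n} (hab : a ≠ b) (hac : a ≠ c) (hbc : b ≠ c) (t : F) :
    ext2 b c L2 * ext2 a b (xT t) * (ext2 b c L2)⁻¹ = ext2 a b (xT t) * ext2 a c (xT t) := by
  have hl : ∀ (i j : Fin n), i ≠ j → ext2 i j (xT t) = kv (lv i) (lv j) t := fun i j hij => by
    rw [xT, ext2_kv hij, push_lv, push_lv]; rfl
  have e1 : (ext2 b c (L2 : Spg 2 F)).1 *ᵥ lv a = lv a := (ext2_fix hbc _ hab hac).1
  have e2 : (ext2 b c (L2 : Spg 2 F)).1 *ᵥ lv b = lv b + lv c := by
    rw [show (lv b : Vs n F) = push b c (lv 0) from (push_lv b c 0).symm, ext2_push hbc, L2_lv.1, map_add,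
      push_lv, push_lv]
    rfl
  rw [hl a b hab, hl a c hac, kv_conj _ _ _ (sf_lv_lv a b), e1, e2]
  exact (CfsgLib.Classical.tv_pair_eq (sf_lv_lv a b) (sf_lv_lv a c) (sf_lv_lv b c) t).symm

variable [Fintype F]

/-- the lifted copy on two pairs -/
noncomputable def liftFam (p : P →* Spg n F) (a b : Fin n) : Spg 2 F →* P :=
  @Classical.epsilon _ ⟨1⟩ fun f : Spg 2 F →* P => ∀ A, p (f A) = ext2 a b A

variable (h3 : 3 ≤ Fintype.card F) (hp : Function.Surjective p) (hc : p.ker ≤ Subgroup.center P)

include h3 in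
theorem perfect_two : commutator (Spg 2 F) = ⊤ :=
  CfsgLib.Classical.commutator_symplectic (Or.inr (Or.inl ⟨rfl, h3⟩))

include h3 hp hc in
theorem exists_lift {a b : Fin n} : ∃ f : Spg 2 F →* P, ∀ A, p (f A) = ext2 a b A := by
  let R : Subgroup (P × Spg 2 F) :=
    (p.comp (MonoidHom.fst P (Spg 2 F))).eqLocus ((ext2 a b).comp (MonoidHom.snd P (Spg 2 F)))
  let r : R →* Spg 2 F := (MonoidHom.snd P (Spg 2 F)).comp R.subtype
  have hr : Function.Surjective r := fun x => by
    obtain ⟨g, hg⟩ := hp (ext2 a b x)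
    exact ⟨⟨(g, x), hg⟩, rfl⟩
  have hrc : r.ker ≤ Subgroup.center R := by
    rintro ⟨⟨g, x⟩, hgx⟩ (hx : x = 1)
    subst hx
    have hg : g ∈ Subgroup.center P := hc (by
      have : p g = ext2 a b 1 := hgx
      rwa [map_one] at this)
    refine Subgroup.mem_center_iff.2 fun y => Subtype.ext (Prod.ext ?_ ?_)
    · exact Subgroup.mem_center_iff.1 hg _
    · show y.1.2 * 1 = 1 * y.1.2
      rw [mul_one, one_mul]
  obtain ⟨s, hs⟩ := exists_section_four h3 r hr hrc
  refine ⟨((MonoidHom.fst P (Spg 2 F)).comp R.subtype).comp s, fun A => ?_⟩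
  have e : p (s A).1.1 = ext2 a b (s A).1.2 := (s A).2
  show p (s A).1.1 = _
  rw [e]
  exact congrArg (ext2 a b) (DFunLike.congr_fun hs A)

include h3 hp hc in
theorem liftFam_spec (a b : Fin n) (A : Spg 2 F) : p (liftFam p a b A) = ext2 a b A := by
  exact Classical.epsilon_spec (exists_lift (a := a) (b := b) h3 hp hc) A

include h3 hp hc in
theorem hyp_liftFam : Hyp p (liftFam p) where
  surj := hp
  cen := hc
  hπ a b _ A := liftFam_spec h3 hp hc a b A
  flip a b hab A := by
    refine DFunLike.congr_fun (hom_unique hc (perfect_two h3)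
      (g := (liftFam p a b).comp flip2) fun B => ?_) A
    rw [MonoidHom.comp_apply, liftFam_spec h3 hp hc, liftFam_spec h3 hp hc, ext2_flip hab]
  dis a b c hab hca hcb A x y hx hy := by
    refine SLUniv.commute_congr hc (hx.trans (liftFam_spec h3 hp hc a b A).symm) rfl ?_
    refine commute_perfect hc (perfect_two h3) _ (fun B => ?_) A
    rw [liftFam_spec h3 hp hc]
    exact commute_ext2_inS hab hca hcb B hy
  quad a b c d hab hcd hac had hbc hbd A B x y hx hy := by
    refine SLUniv.commute_congr hc (hx.trans (liftFam_spec h3 hp hc a b A).symm) rfl ?_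
    refine commute_perfect hc (perfect_two h3) _ (fun C => ?_) A
    rw [liftFam_spec h3 hp hc, hy]
    exact commute_ext2 hab C (ext2_fix hcd B hac had) (ext2_fix hcd B hbc hbd)
  swp a b c hab hac hbc w hw A := by
    refine DFunLike.congr_fun (hom_unique hc (perfect_two h3)
      (f := (MulAut.conj w).toMonoidHom.comp (liftFam p a b)) fun B => ?_) A
    show p (w * liftFam p a b B * w⁻¹) = _
    rw [map_mul, map_mul, map_inv, hw, liftFam_spec h3 hp hc, liftFam_spec h3 hp hc, spPerm_ext2 _ hab,
      Equiv.swap_apply_left, Equiv.swap_apply_of_ne_of_ne hab hac]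

include h3 hp hc in
theorem tri_liftFam {a b c : Fin n} (hab : a ≠ b) (hac : a ≠ c) (hbc : b ≠ c) :
    liftFam p a b X2 * liftFam p a c X2 = liftFam p b c L2 * liftFam p a b X2 * (liftFam p b c L2)⁻¹ := by
  classical
  have H := hyp_liftFam h3 hp hc
  set L : P := liftFam p b c L2 with hL
  set U : F → P := fun t => liftFam p a b (xT t) with hU
  set V : F → P := fun t => liftFam p a c (xT t) with hV
  set φ : F → P := fun t => (U t * V t)⁻¹ * (L * U t * L⁻¹) with hφ
  have hker : ∀ t, φ t ∈ Subgroup.center P := fun t => hc (by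
    rw [MonoidHom.mem_ker]
    simp only [hφ, hU, hV, hL, map_mul, map_inv, liftFam_spec h3 hp hc]
    rw [L2_conj_kv hab hac hbc, inv_mul_cancel])
  have eL : ∀ t, L * U t * L⁻¹ = U t * V t * φ t := fun t => by
    simp only [hφ]; group
  have hadd : ∀ s t, φ (s + t) = φ s * φ t := by
    intro s t
    have hUV : Commute (U t) (V s) := H.comM_share hab hac hbc (inM_xT t) (inM_xT s)
    have hcs := Subgroup.mem_center_iff.1 (hker s)
    have eU : U (s + t) = U s * U t := by simp only [hU, xT_add, map_mul]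
    have eV : V (s + t) = V s * V t := by simp only [hV, xT_add, map_mul]
    have e1 : L * U (s + t) * L⁻¹ = U (s + t) * V (s + t) * (φ s * φ t) := by
      calc L * U (s + t) * L⁻¹ = (L * U s * L⁻¹) * (L * U t * L⁻¹) := by rw [eU]; group
        _ = U s * V s * (φ s * (U t * V t)) * φ t := by rw [eL s, eL t]; group
        _ = U s * V s * (U t * V t * φ s) * φ t := by rw [← hcs]
        _ = U s * (V s * U t) * V t * (φ s * φ t) := by group
        _ = U s * (U t * V s) * V t * (φ s * φ t) := by rw [hUV.eq]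
        _ = _ := by rw [eU, eV]; group
    have e2 := eL (s + t)
    rw [e1] at e2
    exact (mul_left_cancel e2).symm
  obtain ⟨l, hl0, hl1⟩ : ∃ l : F, l ≠ 0 ∧ l ≠ 1 := by
    have hlt : ({0, 1} : Finset F).card < (Finset.univ : Finset F).card := by
      rw [Finset.card_univ]
      exact lt_of_le_of_lt Finset.card_le_two (by omega)
    obtain ⟨l, -, hl⟩ := Finset.exists_mem_notMem_of_card_lt_card hlt
    exact ⟨l, fun e => hl (by simp [e]), fun e => hl (by simp [e])⟩
  set d : Spg 2 F := spDiag (Pi.mulSingle 0 (Units.mk0 l hl0))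
  have hd : InS 0 d := inS_diag _
  have hhL : Commute L (liftFam p a b d) :=
    H.dis b c a hbc hab hac L2 _ _ (liftFam_spec h3 hp hc b c L2)
      (by rw [liftFam_spec h3 hp hc]; exact ext2_inS hab hd)
  have hscale : ∀ t, φ (l * t) = φ t := by
    intro t
    have hdV : liftFam p a b d = liftFam p a c d := H.share hab hac hd
    set h : P := liftFam p a b d with hh
    have eU : U (l * t) = h * U t * h⁻¹ := by
      simp only [hU, hh]
      rw [← map_inv, ← map_mul, ← map_mul, xT_scale, Units.val_mk0]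
    have eV : V (l * t) = h * V t * h⁻¹ := by
      simp only [hV]
      rw [hdV, ← map_inv, ← map_mul, ← map_mul, xT_scale, Units.val_mk0]
    have e1 : L * U (l * t) * L⁻¹ = h * (L * U t * L⁻¹) * h⁻¹ := by
      rw [eU]
      calc L * (h * U t * h⁻¹) * L⁻¹ = (L * h) * U t * (L * h)⁻¹ := by group
        _ = (h * L) * U t * (h * L)⁻¹ := by rw [hhL.eq]
        _ = _ := by group
    calc φ (l * t) = (U (l * t) * V (l * t))⁻¹ * (L * U (l * t) * L⁻¹) := rfl
      _ = h * φ t * h⁻¹ := by rw [e1, eU, eV]; simp only [hφ]; group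
      _ = φ t := by rw [Subgroup.mem_center_iff.1 (hker t) h, mul_inv_cancel_right]
  have hone : φ 1 = 1 := by
    have h1 : l - 1 ≠ 0 := sub_ne_zero.2 hl1
    have e := hadd 1 ((l - 1)⁻¹)
    rw [show 1 + (l - 1)⁻¹ = l * (l - 1)⁻¹ by field_simp; ring, hscale] at e
    exact (mul_right_cancel (show 1 * φ (l - 1)⁻¹ = φ 1 * φ (l - 1)⁻¹ by rw [one_mul, ← e])).symm
  have := eL 1
  rw [hone, mul_one] at this
  simp only [hU, hV, xT_one] at this
  exact this.symm

include h3 hp hc in
/-- central extensions of the symplectic groups split for at least three elements -/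
theorem exists_section_large (hn : 2 ≤ n) :
    ∃ s : Spg n F →* P, p.comp s = MonoidHom.id _ :=
  exists_section_of_fam hn ((hyp_liftFam h3 hp hc).spFam fun _ _ _ => tri_liftFam h3 hp hc)

end CfsgLib.Lie.SpUniv
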