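import Cfsg.Agent.Lib.Lie.SpUniv.TwoPts
import Cfsg.Agent.Lib.Classical.SpFourTwo
import Cfsg.Agent.Lib.Perm.Groups.CoxeterSym

/-!
# Central extensions of `Sp_{2n}(2)`, `n ≥ 4`, split

On two pairs the normalised lifts of five transvections satisfy the Coxeter relations of `S₆ ≅ Sp₄(2)`.
-/

set_option autoImplicit false

namespace CfsgLib.Lie.SpUniv

open Matrix CfsgLib.Sp CfsgLib.Char.SpAmalgam CfsgLib.Lie.BoundedPres

attribute [-simp] Matrix.mulVec_single_one Matrix.mulVec_single

variable {F : Type*} [Field F] [Fintype F] (h2 : Fintype.card F = 2)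

include h2 in
theorem tvSet_eq {n : ℕ} {Γ : Type*} [Group Γ] {f g : Spg n F →* Γ}
    (h : ∀ v, f (tv v 1) = g (tv v 1)) : f = g := by
  refine MonoidHom.eq_of_eqOn_dense CfsgLib.Perm.Trans.Symp.closure_tvSet ?_
  rintro A ⟨v, c, hA⟩
  rw [show A = tv v c from Subtype.ext hA]
  rcases eq_zero_or_one h2 c with rfl | rfl
  · rw [tv_zero, map_one, map_one]
  · exact h v

/-- a chain of five vectors -/
def chain : Fin 5 → Vs 2 F := ![lv 0, rv 0, lv 0 + lv 1, rv 1, lv 1]

include h2 in
theorem chain_sf (i j : Fin 5) : sf (chain i : Vs 2 F) (chain j) =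
    if (j : ℕ) + 1 = i ∨ (i : ℕ) + 1 = j then 1 else 0 := by
  fin_cases i <;> fin_cases j <;>
    simp [chain, sf_add_left, sf_add_right, sf_lv, sf_rv, lv, rv, neg_self h2]

include h2 in
/-- the chain of transvections presents the symplectic group -/
theorem exists_six : ∃ (cs : CoxeterSystem (CoxeterMatrix.A 5) (Equiv.Perm (Fin 6)))
    (e : Equiv.Perm (Fin 6) ≃* Spg 2 F), ∀ i, e (cs.simple i) = tv (chain i) 1 := by
  classical
  obtain ⟨cs, -⟩ := CfsgLib.Perm.Groups.exists_coxeterSystem_sym 5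
  have sq : ∀ v : Vs 2 F, tv v (1 : F) * tv v 1 = 1 := fun v => by
    rw [tv_mul, one_add_one_eq_two, two_zero h2, tv_zero]
  have step : ∀ v u : Vs 2 F, sf v u = 1 → tv u 1 * tv v 1 * tv u 1 = tv (v + u) (1 : F) := fun v u h => by
    have e := tv_conj (tv u (1 : F)) v 1
    rw [inv_eq_of_mul_eq_one_right (sq u), tv_mulVec, h, one_mul, one_smul] at e
    exact e
  have hlift : (CoxeterMatrix.A 5).IsLiftable fun i => tv (chain i : Vs 2 F) (1 : F) := by
    intro i j
    show _ ^ (if i = j then 1 else (if (j : ℕ) + 1 = i ∨ (i : ℕ) + 1 = j then 3 else 2)) = 1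
    split_ifs with hij hadj
    · rw [hij, pow_one, sq]
    · have a := step _ _ ((chain_sf h2 i j).trans (if_pos hadj))
      have b := step _ _ ((chain_sf h2 j i).trans (if_pos hadj.symm))
      rw [add_comm, ← a] at b
      set A := tv (chain i : Vs 2 F) (1 : F)
      set B := tv (chain j : Vs 2 F) (1 : F)
      calc (A * B) ^ 3 = (A * B * A) * (B * A * B) := by simp [pow_succ, mul_assoc]
        _ = (B * A * B) * (B * A * B) := by rw [b]
        _ = B * (A * ((B * B) * (A * B))) := by simp only [mul_assoc]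
        _ = B * ((A * A) * B) := by rw [sq, one_mul, mul_assoc]
        _ = 1 := by rw [sq, one_mul, sq]
    · have c := (tv_commute ((chain_sf h2 i j).trans (if_neg hadj)) (1 : F) 1)
      rw [c.mul_pow, pow_two, pow_two, sq, sq, one_mul]
  let g : Equiv.Perm (Fin 6) →* Spg 2 F := cs.lift ⟨_, hlift⟩
  have hg : ∀ i, g (cs.simple i) = tv (chain i) 1 := fun i => cs.lift_apply_simple hlift i
  let R : Set (Vs 2 F) := {v | tv v (1 : F) ∈ g.range}
  have hR : ∀ i, (chain i : Vs 2 F) ∈ R := fun i => ⟨_, hg i⟩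
  have hs : ∀ {v u : Vs 2 F}, v ∈ R → u ∈ R → sf v u = 1 → v + u ∈ R := fun {v u} hv hu h => by
    show tv _ _ ∈ g.range
    rw [← step v u h]
    exact mul_mem (mul_mem hu hv) hu
  have hall : ∀ v : Vs 2 F, v ≠ 0 → v ∈ R := by
    have l0 : (lv 0 : Vs 2 F) ∈ R := hR 0
    have r0 : (rv 0 : Vs 2 F) ∈ R := hR 1
    have m : (lv 0 + lv 1 : Vs 2 F) ∈ R := hR 2
    have r1 : (rv 1 : Vs 2 F) ∈ R := hR 3
    have l1 : (lv 1 : Vs 2 F) ∈ R := hR 4
    have a0 := hs l0 r0 (by simp [sf_rv, lv, neg_self h2])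
    have a1 := hs l1 r1 (by simp [sf_rv, lv, neg_self h2])
    have mr0 := hs r0 m (by simp [sf_add_right, sf_lv, rv])
    have mr1 := hs m r1 (by simp [sf_add_left, sf_rv, lv, neg_self h2])
    have r0l1 := hs mr0 l0 (by simp [sf_add_left, sf_lv, rv, lv])
    have all4 := hs mr0 r1 (by simp [sf_add_left, sf_rv, rv, lv, neg_self h2])
    have t3 := hs r0l1 r1 (by simp [sf_add_left, sf_rv, rv, lv, neg_self h2])
    have t013 := hs all4 l1 (by simp [sf_add_left, sf_lv, rv, lv])
    have r01 := hs t3 l1 (by simp [sf_add_left, sf_lv, rv, lv])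
    have l0r1 := hs mr1 l1 (by simp [sf_add_left, sf_lv, rv, lv])
    intro v hv
    have ev : v = v (.inl 0) • lv 0 + v (.inr 0) • rv 0 + v (.inl 1) • lv 1 + v (.inr 1) • rv 1 := by
      funext x
      rcases x with i | i <;> fin_cases i <;> simp [lv, rv]
    have dd : ∀ w : Vs 2 F, w + w = 0 := fun w => funext fun x => by
      simp [← two_mul, two_zero h2]
    have dd' : ∀ w z : Vs 2 F, w + (w + z) = z := fun w z => by rw [← add_assoc, dd, zero_add]
    rcases eq_zero_or_one h2 (v (.inl 0)) with e1 | e1 <;> rcases eq_zero_or_one h2 (v (.inr 0)) with e2 | e2 <;>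
      rcases eq_zero_or_one h2 (v (.inl 1)) with e3 | e3 <;>
        rcases eq_zero_or_one h2 (v (.inr 1)) with e4 | e4 <;>
      rw [e1, e2, e3, e4] at ev <;> simp only [zero_smul, one_smul, zero_add, add_zero] at ev <;> subst v
    all_goals first
      | exact absurd rfl hv
      | assumption
      | (convert mr0 using 1; abel1)
      | (convert mr1 using 1; abel1)
      | (convert all4 using 1; abel1)
      | (convert r0l1 using 1; simp [add_comm, add_left_comm, dd, dd']; done)
      | (convert t3 using 1; simp [add_comm, add_left_comm, dd, dd']; done)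
      | (convert t013 using 1; simp [add_comm, add_left_comm, dd, dd']; done)
      | (convert r01 using 1; simp [add_comm, add_left_comm, dd, dd']; done)
      | (convert l0r1 using 1; simp [add_comm, add_left_comm, dd, dd']; done)
  have hsur : Function.Surjective g := by
    rw [← MonoidHom.range_eq_top, eq_top_iff, ← CfsgLib.Perm.Trans.Symp.closure_tvSet, Subgroup.closure_le]
    rintro A ⟨v, c, hA⟩
    rw [show A = tv v c from Subtype.ext hA]
    rcases eq_zero_or_one h2 c with rfl | rfl
    · rw [tv_zero]; exact one_mem _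
    by_cases hv : v = 0
    · rw [hv, show tv (0 : Vs 2 F) (1 : F) = 1 from sp_ext_vec fun u => by rw [tv_mulVec, sp_one_mulVec]; simp]
      exact one_mem _
    exact hall v hv
  obtain ⟨e⟩ := CfsgLib.Classical.sp_four_two_equiv_perm h2
  haveI : Finite (Spg 2 F) := Finite.of_equiv _ e.symm.toEquiv
  exact ⟨cs, MulEquiv.ofBijective g ((Nat.bijective_iff_surjective_and_card g).2
    ⟨hsur, (Nat.card_congr e.toEquiv).symm⟩), hg⟩

variable {n : ℕ} {P : Type*} [Group P] {p : P →* Spg n F} {X : Vs n F → P} (H : Pts p X)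

include H in
theorem Pts.comm_of_sf {v w : Vs n F} (h : sf v w = 0) : Commute (X v) (X w) := by
  have e := H.conj (X v) w
  rw [H.img, tv_mulVec, sf_swap, h] at e
  simp only [neg_zero, mul_zero, zero_smul, add_zero] at e
  exact mul_inv_eq_iff_eq_mul.1 e

include h2 H in
theorem Pts.braid {v w : Vs n F} (h : sf v w = 1) : X v * X w * X v = X w * X v * X w := by
  have e1 := H.conj (X v) w
  have e2 := H.conj (X w) v
  rw [inv_eq_of_mul_eq_one_right (H.sq _), H.img, tv_mulVec, one_mul] at e1 e2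
  rw [e1, e2, sf_swap w v, h, neg_self h2, one_smul, one_smul, add_comm]

theorem push_flip (a b : Fin n) (v : Vs 2 F) :
    push b a v = push a b ((spPerm (Equiv.swap (0 : Fin 2) 1) : Spg 2 F).1 *ᵥ v) := by
  simp only [push, LinearMap.coe_mk, AddHom.coe_mk, spPerm_apply]
  simp
  abel

include h2 H in
theorem exists_pair_hom {a b : Fin n} (hab : a ≠ b) :
    ∃ f : Spg 2 F →* P, (∀ A, p (f A) = ext2 a b A) ∧ ∀ v, f (tv v 1) = X (push a b v) := by
  classical
  obtain ⟨cs, e, he⟩ := exists_six h2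
  have hsf : ∀ v w : Vs 2 F, sf (push a b v) (push a b w) = sf v w := fun v w => by
    rw [sf_push, pull_push hab]
  have hlift : (CoxeterMatrix.A 5).IsLiftable fun i => X (push a b (chain i : Vs 2 F)) := by
    intro i j
    show _ ^ (if i = j then 1 else (if (j : ℕ) + 1 = i ∨ (i : ℕ) + 1 = j then 3 else 2)) = 1
    split_ifs with hij hadj
    · rw [hij, pow_one, H.sq]
    · have b' := H.braid h2 ((hsf _ _).trans ((chain_sf h2 i j).trans (if_pos hadj)))
      set A := X (push a b (chain i : Vs 2 F))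
      set B := X (push a b (chain j : Vs 2 F))
      have sA : A * A = 1 := H.sq _
      have sB : B * B = 1 := H.sq _
      calc (A * B) ^ 3 = (A * B * A) * (B * A * B) := by simp [pow_succ, mul_assoc]
        _ = (B * A * B) * (B * A * B) := by rw [b']
        _ = B * (A * ((B * B) * (A * B))) := by simp only [mul_assoc]
        _ = B * ((A * A) * B) := by rw [sB, one_mul, mul_assoc]
        _ = 1 := by rw [sA, one_mul, sB]
    · have c := H.comm_of_sf ((hsf _ _).trans ((chain_sf h2 i j).trans (if_neg hadj)))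
      rw [c.mul_pow, pow_two, pow_two, H.sq, H.sq, one_mul]
  let g : Equiv.Perm (Fin 6) →* P := cs.lift ⟨_, hlift⟩
  have hg : ∀ i, g (cs.simple i) = X (push a b (chain i)) := fun i => cs.lift_apply_simple hlift i
  let f : Spg 2 F →* P := g.comp e.symm.toMonoidHom
  have hf : ∀ i, f (tv (chain i) 1) = X (push a b (chain i)) := fun i => by
    show g (e.symm _) = _
    rw [← he, e.symm_apply_apply, hg]
  have hp' : ∀ A, p (f A) = ext2 a b A := fun A => by
    have e' : (p.comp g) = (ext2 a b).comp e.toMonoidHom := cs.ext_simple fun i => by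
      show p (g _) = ext2 a b (e _)
      rw [hg, he, H.img, ext2_tv hab]
    have := DFunLike.congr_fun e' (e.symm A)
    simpa [f] using this
  refine ⟨f, hp', fun v => ?_⟩
  by_cases hv : v = 0
  · rw [hv, map_zero, H.zero, show tv (0 : Vs 2 F) (1 : F) = 1 from
      sp_ext_vec fun u => by rw [tv_mulVec, sp_one_mulVec]; simp, map_one]
  obtain ⟨A, hA⟩ := exists_move (show (chain 0 : Vs 2 F) ≠ 0 from lv_ne_zero _) hv
  rw [← hA, ← tv_conj, map_mul, map_mul, map_inv, hf, H.conj, hp', ext2_push hab]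

/-- the copies built from the lifts -/
noncomputable def pairFam (X : Vs n F → P) (a b : Fin n) : Spg 2 F →* P :=
  @Classical.epsilon _ ⟨1⟩ fun f : Spg 2 F →* P => ∀ v, f (tv v 1) = X (push a b v)

include h2 H in
theorem pairFam_tv {a b : Fin n} (hab : a ≠ b) (v : Vs 2 F) :
    pairFam X a b (tv v 1) = X (push a b v) := by
  obtain ⟨f, -, hf⟩ := exists_pair_hom h2 H hab
  exact Classical.epsilon_spec (p := fun f : Spg 2 F →* P => ∀ v, f (tv v 1) = X (push a b v)) ⟨f, hf⟩ v

include h2 H in
theorem pairFam_spec {a b : Fin n} (hab : a ≠ b) (A : Spg 2 F) : p (pairFam X a b A) = ext2 a b A := by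
  refine DFunLike.congr_fun (tvSet_eq h2 (f := p.comp (pairFam X a b)) fun v => ?_) A
  rw [MonoidHom.comp_apply, pairFam_tv h2 H hab, H.img, ext2_tv hab]

include h2 H in
theorem pairFam_commute {a b : Fin n} (hab : a ≠ b) {y : P}
    (hy : ∀ v, (p y).1 *ᵥ push a b v = push a b v) (A : Spg 2 F) : Commute (pairFam X a b A) y := by
  have e : ((MulAut.conj y).toMonoidHom.comp (pairFam X a b)) = pairFam X a b := tvSet_eq h2 fun v => by
    show y * pairFam X a b (tv v 1) * y⁻¹ = _
    rw [pairFam_tv h2 H hab, H.conj, hy]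
  have e' : y * pairFam X a b A * y⁻¹ = pairFam X a b A := DFunLike.congr_fun e A
  exact (mul_inv_eq_iff_eq_mul.1 e').symm

theorem push_fixed {a b : Fin n} {Y : Spg n F} (ha : Y.1 *ᵥ lv a = lv a ∧ Y.1 *ᵥ rv a = rv a)
    (hb : Y.1 *ᵥ lv b = lv b ∧ Y.1 *ᵥ rv b = rv b) (y : Vs 2 F) : Y.1 *ᵥ push a b y = push a b y := by
  simp only [push, LinearMap.coe_mk, AddHom.coe_mk, Matrix.mulVec_add, Matrix.mulVec_smul, ha.1, ha.2, hb.1,
    hb.2]

variable (hp : Function.Surjective p) (hc : p.ker ≤ Subgroup.center P)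

include h2 H hp hc in
theorem hyp_pairFam : Hyp p (pairFam X) where
  surj := hp
  cen := hc
  hπ _ _ hab A := pairFam_spec h2 H hab A
  flip a b hab A := by
    refine DFunLike.congr_fun (tvSet_eq h2 (g := (pairFam X a b).comp flip2) fun v => ?_) A
    rw [MonoidHom.comp_apply, pairFam_tv h2 H hab.symm,
      show flip2 (tv v (1 : F)) = spPerm (Equiv.swap (0 : Fin 2) 1) * tv v 1 *
        (spPerm (Equiv.swap (0 : Fin 2) 1))⁻¹ from rfl, tv_conj, pairFam_tv h2 H hab, push_flip]
  dis a b c hab hca hcb A x y hx hy := by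
    refine SLUniv.commute_congr hc (hx.trans (pairFam_spec h2 H hab A).symm) rfl ?_
    exact pairFam_commute h2 H hab (push_fixed (hy a hca.symm) (hy b hcb.symm)) A
  quad a b c d hab hcd hac had hbc hbd A B x y hx hy := by
    refine SLUniv.commute_congr hc (hx.trans (pairFam_spec h2 H hab A).symm) rfl ?_
    refine pairFam_commute h2 H hab (fun v => ?_) A
    rw [hy]
    exact push_fixed (ext2_fix hcd B hac had) (ext2_fix hcd B hbc hbd) v
  swp a b c hab hac hbc w hw A := by
    refine DFunLike.congr_fun (tvSet_eq h2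
      (f := (MulAut.conj w).toMonoidHom.comp (pairFam X a b)) fun v => ?_) A
    show w * pairFam X a b (tv v 1) * w⁻¹ = _
    rw [pairFam_tv h2 H hab, H.conj, hw, pairFam_tv h2 H hac]
    simp only [push, LinearMap.coe_mk, AddHom.coe_mk, Matrix.mulVec_add, Matrix.mulVec_smul, spPerm_lv,
      spPerm_rv, Equiv.swap_apply_left, Equiv.swap_apply_of_ne_of_ne hab hac]

include h2 H in
theorem pairFam_X2 {a b : Fin n} (hab : a ≠ b) :
    pairFam X a b X2 = X (lv a + lv b) * X (lv a) * X (lv b) := by
  rw [show (X2 : Spg 2 F) = tv (lv 0 + lv 1) 1 * tv (lv 0) (-1) * tv (lv 1) (-1) from rfl, neg_self h2,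
    map_mul, map_mul, pairFam_tv h2 H hab, pairFam_tv h2 H hab, pairFam_tv h2 H hab, map_add, push_lv, push_lv]
  rfl

include h2 H in
theorem tri_pairFam {a b c : Fin n} (hab : a ≠ b) (hac : a ≠ c) (hbc : b ≠ c) :
    pairFam X a b X2 * pairFam X a c X2 =
      pairFam X b c L2 * pairFam X a b X2 * (pairFam X b c L2)⁻¹ := by
  set L : P := pairFam X b c L2
  have ea : (p L).1 *ᵥ lv a = lv a := by
    rw [pairFam_spec h2 H hbc]; exact (ext2_fix hbc _ hab hac).1
  have eb : (p L).1 *ᵥ lv b = lv b + lv c := by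
    rw [pairFam_spec h2 H hbc, show (lv b : Vs n F) = push b c (lv 0) from (push_lv b c 0).symm, ext2_push hbc,
      L2_lv.1, map_add, push_lv, push_lv]
    rfl
  have eR : L * pairFam X a b X2 * L⁻¹ = X (lv a + lv b + lv c) * X (lv a) * X (lv b + lv c) := by
    rw [pairFam_X2 h2 H hab]
    calc L * (X (lv a + lv b) * X (lv a) * X (lv b)) * L⁻¹ =
        (L * X (lv a + lv b) * L⁻¹) * (L * X (lv a) * L⁻¹) * (L * X (lv b) * L⁻¹) := by group
      _ = _ := by rw [H.conj, H.conj, H.conj, Matrix.mulVec_add, ea, eb, add_assoc]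
  rw [eR, pairFam_X2 h2 H hab, pairFam_X2 h2 H hac]
  have h7 := H.plane a b c hab hac hbc
  rw [seven] at h7
  set A := X (lv a)
  set B := X (lv b)
  set C := X (lv c)
  set AB := X (lv a + lv b)
  set AC := X (lv a + lv c)
  set BC := X (lv b + lv c)
  set T := X (lv a + lv b + lv c)
  have cab : Commute AB A := H.comm_of_sf (by simp [sf_add_left, sf_lv_lv])
  have cacC : Commute AC C := H.comm_of_sf (by simp [sf_add_left, sf_lv_lv])
  have cA : ∀ w, sf (lv a) w = 0 → Commute A (X w) := fun w h => H.comm_of_sf h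
  have sA : A * A = 1 := H.sq _
  have k1 : B * C * AB * AC = A * T * BC := by
    have h' : A * (B * C * AB * AC) * (BC * T) = 1 := by simpa only [mul_assoc] using h7
    have i1 : (BC * T)⁻¹ = T * BC := by
      refine inv_eq_of_mul_eq_one_right ?_
      calc BC * T * (T * BC) = BC * (T * T) * BC := by group
        _ = 1 := by rw [show T * T = 1 from H.sq _, mul_one]; exact H.sq _
    have h'' : A * (B * C * AB * AC) = T * BC := by rw [← i1]; exact eq_inv_of_mul_eq_one_left h'
    calc B * C * AB * AC = (A * A) * (B * C * AB * AC) := by rw [sA, one_mul]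
      _ = A * (A * (B * C * AB * AC)) := by group
      _ = _ := by rw [h'']; group
  have cABB : Commute AB B := H.comm_of_sf (by simp [sf_add_left, sf_lv_lv])
  have cCAB : Commute C AB := H.comm_of_sf (by simp [sf_add_right, sf_lv_lv])
  have cAAC : Commute A AC := H.comm_of_sf (by simp [sf_add_right, sf_lv_lv])
  have cABA : Commute A B := H.comm_of_sf (sf_lv_lv _ _)
  calc AB * A * B * (AC * A * C) = AB * (A * B) * (AC * A) * C := by group
    _ = AB * (B * A) * (A * AC) * C := by rw [cABA.eq, cAAC.eq]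
    _ = (AB * B) * (A * A) * (AC * C) := by group
    _ = (B * AB) * (A * A) * (C * AC) := by rw [cABB.eq, cacC.eq]
    _ = B * (AB * C) * AC := by rw [sA]; group
    _ = B * C * AB * AC := by rw [← cCAB.eq]; group
    _ = A * T * BC := k1
    _ = T * A * BC := by rw [show A * T = T * A from (cA _ (by simp [sf_add_right, sf_lv_lv])).eq]

include h2 hp hc in
/-- central extensions of `Sp_{2n}(2)` split for `n ≥ 4` -/
theorem exists_section_two (hn : 4 ≤ n) : ∃ s : Spg n F →* P, p.comp s = MonoidHom.id _ := by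
  obtain ⟨X, H⟩ := exists_pts h2 hn hp hc
  exact exists_section_of_fam (by omega) ((hyp_pairFam h2 H hp hc).spFam fun _ _ _ => tri_pairFam h2 H)

end CfsgLib.Lie.SpUniv
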