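import Cfsg.Agent.Lib.Lie.SpUniv.Large

/-!
# Lifts of the transvections in a central extension of `Sp_{2n}(2)`, `n ≥ 4`

The stabiliser of a vector is generated by commutators and its transvection, so lifts of the transvections
form one class moved like the vectors. They are normalised to involutions whose product over the seven
points of a totally isotropic plane is trivial.
-/

set_option autoImplicit false

namespace CfsgLib.Lie.SpUniv

open Matrix CfsgLib.Sp CfsgLib.Char.SpAmalgam CfsgLib.Lie.BoundedPres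
open scoped commutatorElement

attribute [-simp] Matrix.mulVec_single_one Matrix.mulVec_single

/-- lifts of a perfect subgroup commuting with an image commute with the element -/
theorem commute_derived {P Q S : Type*} [Group P] [Group Q] [Group S] {p : P →* Q}
    (hp : Function.Surjective p) (hc : p.ker ≤ Subgroup.center P) (hS : commutator S = ⊤) (i : S →* Q)
    {x : P} (h : ∀ s, Commute (i s) (p x)) (s : S) (y : P) (hy : p y = i s) : Commute y x := by
  have hs : s ∈ Subgroup.closure (commutatorSet S) := by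
    rw [← commutator_eq_closure, hS]; trivial
  induction hs using Subgroup.closure_induction generalizing y with
  | mem t ht =>
    obtain ⟨a, b, rfl⟩ := ht
    obtain ⟨A, hA⟩ := hp (i a)
    obtain ⟨B, hB⟩ := hp (i b)
    refine SLUniv.commute_congr hc (a' := ⁅A, B⁆) (b' := x)
      (by rw [hy, map_commutatorElement, map_commutatorElement, hA, hB]) rfl ?_
    exact (SLUniv.commute_comm hc (by rw [hA]; exact (h a).symm) (by rw [hB]; exact (h b).symm)).symm
  | one =>
    exact (Subgroup.mem_center_iff.1 (hc (show p y = 1 by rw [hy, map_one])) x).symm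
  | mul a b _ _ ha hb =>
    obtain ⟨A, hA⟩ := hp (i a)
    have := (ha A hA).mul_left (hb (A⁻¹ * y) (by rw [map_mul, map_inv, hA, hy, map_mul, inv_mul_cancel_left]))
    rwa [mul_inv_cancel_left] at this
  | inv a _ ha =>
    have := ha y⁻¹ (by rw [map_inv, hy, map_inv, inv_inv])
    simpa using this.inv_left

variable {F : Type*} [Field F] [Fintype F] (h2 : Fintype.card F = 2)

include h2 in
theorem eq_zero_or_one (t : F) : t = 0 ∨ t = 1 := by
  classical
  by_contra h
  push Not at h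
  have : ({0, 1, t} : Finset F).card ≤ 2 := h2 ▸ Finset.card_le_univ _
  rw [Finset.card_insert_of_notMem (by simp [Ne.symm h.1]), Finset.card_pair (Ne.symm h.2)] at this
  omega

include h2 in
theorem two_zero : (2 : F) = 0 := by
  rcases eq_zero_or_one h2 (1 + 1 : F) with h | h
  · rw [← one_add_one_eq_two, h]
  · exact absurd (add_eq_left.1 h) one_ne_zero

include h2 in
theorem neg_self (t : F) : -t = t := by
  linear_combination (-t) * two_zero h2

section Stab

variable {k : ℕ} {P : Type*} [Group P] {p : P →* Spg (k + 1) F}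
variable (hp : Function.Surjective p) (hc : p.ker ≤ Subgroup.center P) (hk : 3 ≤ k)

include h2 hp hc hk in
/-- whatever fixes the first vector commutes with a lift of its transvection -/
theorem stab_commute {x : P} (hx : p x = zU 1) {y : P} (hy : (p y).1 *ᵥ (e0 : Vs (k + 1) F) = e0) :
    Commute y x := by
  have hperf : commutator (Spg k F) = ⊤ := CfsgLib.Classical.commutator_symplectic (Or.inl hk)
  have hfix : ∀ B : Spg k F, (emb B).1 *ᵥ (e0 : Vs (k + 1) F) = e0 := fun B => by
    rw [e0, emb_vec, Matrix.mulVec_zero]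
  have cemb : ∀ B : Spg k F, Commute (emb B) (zU 1 : Spg (k + 1) F) := fun B => by
    have := tv_conj (emb B) (e0 : Vs (k + 1) F) (1 : F)
    rw [hfix] at this
    exact mul_inv_eq_iff_eq_mul.1 this
  have cxU : ∀ z : Vs k F, Commute (xU z) (zU 1 : Spg (k + 1) F) := fun z => by
    have := tv_conj (xU z) (e0 : Vs (k + 1) F) (1 : F)
    rw [show (xU z).1 *ᵥ (e0 : Vs (k + 1) F) = e0 by
      rw [e0, xU_vec, sf_swap (0 : Vs k F), sf_zero_right]; simp] at this
    exact mul_inv_eq_iff_eq_mul.1 this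
  have hE : ∀ B y, p y = emb B → Commute y x := fun B y hy =>
    commute_derived hp hc hperf emb (fun s => by rw [hx]; exact cemb s) B y hy
  have hZ : ∀ t y, p y = zU t → Commute y x := by
    intro t y hy
    rcases eq_zero_or_one h2 t with rfl | rfl
    · rw [zU, tv_zero] at hy
      exact (Subgroup.mem_center_iff.1 (hc hy) x).symm
    · exact SLUniv.commute_congr hc (hy.trans hx.symm) rfl (Commute.refl x)
  have hX : ∀ z y, p y = xU z → Commute y x := by
    intro z y hy
    by_cases hz : z = 0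
    · rw [hz, xU_zero] at hy
      exact (Subgroup.mem_center_iff.1 (hc hy) x).symm
    obtain ⟨g, hg⟩ := exists_move (lv_ne_zero (F := F) (⟨0, by omega⟩ : Fin k)) hz
    set i0 : Fin k := ⟨0, by omega⟩
    set i1 : Fin k := ⟨1, by omega⟩
    have h01 : i1 ≠ i0 := by simp [i0, i1, Fin.ext_iff]
    set u : Vs k F := g.1 *ᵥ lv i1
    set w : Vs k F := g.1 *ᵥ rv i1
    have huz : sf u z = 0 := by rw [← hg, sf_sp, sf_lv_lv]
    have hwz : sf w z = 0 := by rw [← hg, sf_sp, sf_lv]; simp [rv, h01.symm]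
    have huw : sf u w = -1 := by rw [sf_sp, sf_rv]; simp [lv]
    set s : Spg k F := kv w z (-1)
    have hsu : s.1 *ᵥ u = u + z := by
      rw [kv_mulVec _ _ hwz, huz, huw]; simp
    obtain ⟨A, hA⟩ := hp (emb s)
    obtain ⟨B, hB⟩ := hp (xU u)
    refine SLUniv.commute_congr hc (a' := ⁅A, B⁆) (b' := x) ?_ rfl ?_
    · rw [hy, map_commutatorElement, hA, hB, commutatorElement_def, xU_conj, hsu, eq_mul_inv_iff_mul_eq,
        xU_mul, huz, zU, tv_zero, one_mul, add_comm z u]
    · exact (SLUniv.commute_comm hc (by rw [hA, hx]; exact (cemb s).symm)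
        (by rw [hB, hx]; exact (cxU u).symm)).symm
  obtain ⟨t, z, B, he⟩ := exists_stab_form hy
  obtain ⟨a, ha⟩ := hp (zU t)
  obtain ⟨b, hb⟩ := hp (xU z)
  obtain ⟨c, hc'⟩ := hp (emb B)
  refine SLUniv.commute_congr hc (a' := a * b * c) (b' := x) (by rw [he, map_mul, map_mul, ha, hb, hc']) rfl ?_
  exact ((hZ t a ha).mul_left (hX z b hb)).mul_left (hE B c hc')

include h2 hp hc hk in
/-- one class of lifts -/
theorem exists_orbit {x : P} (hx : p x = zU 1) : ∃ X : Vs (k + 1) F → P,
    (∀ v, p (X v) = tv v 1) ∧ X 0 = 1 ∧ ∀ y v, y * X v * y⁻¹ = X ((p y).1 *ᵥ v) := by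
  classical
  let X : Vs (k + 1) F → P := fun v =>
    if h : ∃ y, (p y).1 *ᵥ (e0 : Vs (k + 1) F) = v then h.choose * x * h.choose⁻¹ else 1
  have he0 : (e0 : Vs (k + 1) F) ≠ 0 := by rw [e0_eq]; exact lv_ne_zero 0
  have hex : ∀ v : Vs (k + 1) F, v ≠ 0 → ∃ y, (p y).1 *ᵥ (e0 : Vs (k + 1) F) = v := fun v hv => by
    obtain ⟨g, hg⟩ := exists_move he0 hv
    obtain ⟨y, hy⟩ := hp g
    exact ⟨y, by rw [hy, hg]⟩
  have h0 : X 0 = 1 := dif_neg fun ⟨y, hy⟩ => sp_mulVec_ne_zero (p y) he0 hy
  have hX : ∀ y, X ((p y).1 *ᵥ (e0 : Vs (k + 1) F)) = y * x * y⁻¹ := fun y => by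
    have h : ∃ y', (p y').1 *ᵥ (e0 : Vs (k + 1) F) = (p y).1 *ᵥ e0 := ⟨y, rfl⟩
    show dite _ _ _ = _
    rw [dif_pos h]
    have hs := h.choose_spec
    set y' := h.choose
    have c : Commute (y⁻¹ * y') x := stab_commute h2 hp hc hk hx (by
      rw [map_mul, map_inv, sp_mul_mulVec, hs, sp_inv_mulVec])
    calc y' * x * y'⁻¹ = y * ((y⁻¹ * y') * x * (y⁻¹ * y')⁻¹) * y⁻¹ := by group
      _ = _ := by rw [c.eq, mul_inv_cancel_right]
  refine ⟨X, fun v => ?_, h0, fun y v => ?_⟩
  · by_cases hv : v = 0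
    · rw [hv, h0, map_one]
      exact (sp_ext_vec fun u => by rw [tv_mulVec, sp_one_mulVec]; simp).symm
    obtain ⟨y, rfl⟩ := hex v hv
    rw [hX, map_mul, map_mul, map_inv, hx, zU, tv_conj]
  · by_cases hv : v = 0
    · rw [hv, h0, Matrix.mulVec_zero, h0, mul_one, mul_inv_cancel]
    obtain ⟨z, rfl⟩ := hex v hv
    rw [hX, ← sp_mul_mulVec, ← map_mul, hX]
    group

end Stab

variable {n : ℕ} {P : Type*} [Group P]

/-- the product over the points of a plane -/
def seven (X : Vs n F → P) (a b c : Vs n F) : P :=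
  X a * X b * X c * X (a + b) * X (a + c) * X (b + c) * X (a + b + c)

variable {p : P →* Spg n F}

include h2 in
theorem seven_tv (a b c : Vs n F) (hab : sf a b = 0) (hac : sf a c = 0) (hbc : sf b c = 0) :
    seven (fun v => tv v (1 : F)) a b c = 1 := by
  have hba : sf b a = 0 := by rw [sf_swap, hab, neg_zero]
  have hca : sf c a = 0 := by rw [sf_swap, hac, neg_zero]
  have hcb : sf c b = 0 := by rw [sf_swap, hbc, neg_zero]
  refine sp_ext_vec fun x => ?_
  simp only [seven, sp_mul_mulVec, sp_one_mulVec, tv_mulVec, sf_add_left, sf_add_right, sf_smul_left, sf_self,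
    hab, hba, hac, hca, hbc, hcb, mul_zero, add_zero, one_mul]
  have h4 : (4 : F) = 0 := by linear_combination (2 : F) * two_zero h2
  match_scalars <;> ring_nf <;> simp [two_zero h2, h4]

/-- normalised lifts of the transvections -/
structure Pts (p : P →* Spg n F) (X : Vs n F → P) : Prop where
  img : ∀ v, p (X v) = tv v 1
  conj : ∀ y v, y * X v * y⁻¹ = X ((p y).1 *ᵥ v)
  sq : ∀ v, X v * X v = 1
  zero : X 0 = 1
  plane : ∀ a b c : Fin n, a ≠ b → a ≠ c → b ≠ c → seven X (lv a) (lv b) (lv c) = 1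

include h2 in
theorem exists_pts (hn : 4 ≤ n) (hp : Function.Surjective p) (hc : p.ker ≤ Subgroup.center P) :
    ∃ X : Vs n F → P, Pts p X := by
  classical
  obtain ⟨k, rfl⟩ : ∃ k, n = k + 1 := ⟨n - 1, by omega⟩
  obtain ⟨x, hx⟩ := hp (zU 1)
  obtain ⟨X, hi, h0, hcj⟩ := exists_orbit h2 hp hc (by omega) hx
  have he0 : (e0 : Vs (k + 1) F) ≠ 0 := by rw [e0_eq]; exact lv_ne_zero 0
  set i1 : Fin (k + 1) := ⟨1, by omega⟩
  set i2 : Fin (k + 1) := ⟨2, by omega⟩
  set z : P := X e0 * X e0 with hz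
  set c : P := seven X (lv 0) (lv i1) (lv i2) with hc0
  have hzc : z ∈ Subgroup.center P := hc (by
    rw [MonoidHom.mem_ker, map_mul, hi, tv_mul, one_add_one_eq_two, two_zero h2, tv_zero])
  have hcc : c ∈ Subgroup.center P := hc (by
    rw [MonoidHom.mem_ker, hc0, seven]
    simp only [map_mul, hi]
    exact seven_tv h2 _ _ _ (sf_lv_lv _ _) (sf_lv_lv _ _) (sf_lv_lv _ _))
  set a : P := z ^ 3 * c⁻¹ with ha0
  have ha : a ∈ Subgroup.center P := mul_mem (pow_mem hzc 3) (inv_mem hcc)
  have haC : ∀ g, g * a = a * g := Subgroup.mem_center_iff.1 ha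
  let Y : Vs (k + 1) F → P := fun v => if v = 0 then 1 else X v * a
  have hY : ∀ v, v ≠ 0 → Y v = X v * a := fun v hv => if_neg hv
  have hY0 : Y 0 = 1 := if_pos rfl
  have hsq : ∀ v, v ≠ 0 → X v * X v = z := by
    intro v hv
    obtain ⟨g, hg⟩ := exists_move he0 hv
    obtain ⟨y, hy⟩ := hp g
    rw [show X v = y * X e0 * y⁻¹ by rw [hcj, hy, hg],
      show y * X e0 * y⁻¹ * (y * X e0 * y⁻¹) = y * z * y⁻¹ by rw [hz]; group,
      Subgroup.mem_center_iff.1 hzc y, mul_inv_cancel_right]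
  have hcY : ∀ y v, y * Y v * y⁻¹ = Y ((p y).1 *ᵥ v) := by
    intro y v
    by_cases hv : v = 0
    · rw [hv, hY0, Matrix.mulVec_zero, hY0, mul_one, mul_inv_cancel]
    rw [hY v hv, hY _ (sp_mulVec_ne_zero _ hv), ← hcj,
      show y * (X v * a) * y⁻¹ = y * X v * (a * y⁻¹) by group, ← haC y⁻¹]
    group
  have hiY : ∀ v, p (Y v) = tv v 1 := by
    intro v
    by_cases hv : v = 0
    · rw [hv, hY0, ← h0, hi]
    have : p a = 1 := by
      rw [ha0, map_mul, map_pow, map_inv, show p c = 1 from ?_, show p z = 1 from ?_]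
      · simp
      · rw [hz, map_mul, hi, tv_mul, one_add_one_eq_two, two_zero h2, tv_zero]
      · rw [hc0, seven]; simp only [map_mul, hi]
        exact seven_tv h2 _ _ _ (sf_lv_lv _ _) (sf_lv_lv _ _) (sf_lv_lv _ _)
    rw [hY v hv, map_mul, hi, this, mul_one]
  have hzcm : Commute z c := (Subgroup.mem_center_iff.1 hcc z)
  have haa : z * (a * a) = 1 := by
    have e : a * a = z ^ 6 * (c * c)⁻¹ := by
      rw [ha0, _root_.mul_inv_rev]
      calc z ^ 3 * c⁻¹ * (z ^ 3 * c⁻¹) = z ^ 3 * (c⁻¹ * z ^ 3) * c⁻¹ := by group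
        _ = _ := by rw [((hzcm.pow_left 3).inv_right).symm.eq]; group
    have ec : c * c = z ^ 7 := by
      have hne : ∀ (i j : Fin (k + 1)), i ≠ j → (lv i + lv j : Vs (k + 1) F) ≠ 0 := fun i j hij h => by
        have := congrFun h (.inl i)
        simp [lv, Pi.single_apply, hij] at this
      have hne3 : (lv 0 + lv i1 + lv i2 : Vs (k + 1) F) ≠ 0 := fun h => by
        have := congrFun h (.inl i2)
        simp [lv, i1, i2, Fin.ext_iff] at this
      have hcomm : ∀ v w : Vs (k + 1) F, sf w v = 0 → Commute (X v) (X w) := fun v w h => by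
        refine mul_inv_eq_iff_eq_mul.1 ?_
        rw [hcj, hi, tv_mulVec, h]
        simp
      have h01 : (0 : Fin (k + 1)) ≠ i1 := by simp [i1, Fin.ext_iff]
      have h02 : (0 : Fin (k + 1)) ≠ i2 := by simp [i2, Fin.ext_iff]
      have h12 : i1 ≠ i2 := by simp [i1, i2, Fin.ext_iff]
      have s1 := hsq _ (lv_ne_zero (F := F) (0 : Fin (k + 1)))
      have s2 := hsq _ (lv_ne_zero (F := F) i1)
      have s3 := hsq _ (lv_ne_zero (F := F) i2)
      have s4 := hsq _ (hne _ _ h01)
      have s5 := hsq _ (hne _ _ h02)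
      have s6 := hsq _ (hne _ _ h12)
      have s7 := hsq _ hne3
      have hmul : ∀ (A B : P), Commute A B → (A * B) * (A * B) = (A * A) * (B * B) := fun A B h =>
        h.symm.mul_mul_mul_comm A B
      rw [hc0, seven]
      rw [hmul, hmul, hmul, hmul, hmul, hmul, s1, s2, s3, s4, s5, s6, s7]
      · simp only [pow_succ, pow_zero, one_mul]
      all_goals
        (repeat' apply Commute.mul_left) <;> apply hcomm <;>
          simp [sf_add_left, sf_add_right, sf_lv_lv]
    rw [e, ec]; group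
  refine ⟨Y, hiY, hcY, fun v => ?_, hY0, fun i j l hij hil hjl => ?_⟩
  · by_cases hv : v = 0
    · rw [hv, hY0, one_mul]
    rw [hY v hv, show X v * a * (X v * a) = X v * (a * X v) * a by group, ← haC (X v),
      show X v * (X v * a) * a = X v * X v * (a * a) by group, hsq v hv, haa]
  -- the base plane, moved by a permutation
  have hbase : seven Y (lv 0) (lv i1) (lv i2) = 1 := by
    have h01 : (0 : Fin (k + 1)) ≠ i1 := by simp [i1, Fin.ext_iff]
    have h02 : (0 : Fin (k + 1)) ≠ i2 := by simp [i2, Fin.ext_iff]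
    have h12 : i1 ≠ i2 := by simp [i1, i2, Fin.ext_iff]
    have hne : ∀ (i j : Fin (k + 1)), i ≠ j → (lv i + lv j : Vs (k + 1) F) ≠ 0 := fun i j hij h => by
      have := congrFun h (.inl i)
      simp [lv, Pi.single_apply, hij] at this
    have hne3 : (lv 0 + lv i1 + lv i2 : Vs (k + 1) F) ≠ 0 := fun h => by
      have := congrFun h (.inl i2)
      simp [lv, i1, i2, Fin.ext_iff] at this
    have mv : ∀ A B : P, A * a * B = A * B * a := fun A B => by rw [mul_assoc, ← haC B, mul_assoc]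
    have hz3 : z * (a * a) = 1 := haa
    rw [seven, hY _ (lv_ne_zero _), hY _ (lv_ne_zero _), hY _ (lv_ne_zero _), hY _ (hne _ _ h01),
      hY _ (hne _ _ h02), hY _ (hne _ _ h12), hY _ hne3]
    simp only [← mul_assoc, mv]
    rw [show X (lv 0) * X (lv i1) * X (lv i2) * X (lv 0 + lv i1) * X (lv 0 + lv i2) * X (lv i1 + lv i2) *
      X (lv 0 + lv i1 + lv i2) = c from rfl]
    have e6 : a * a * a * a * a * a = z⁻¹ * z⁻¹ * z⁻¹ := by
      rw [show a * a * a * a * a * a = (a * a) * (a * a) * (a * a) by simp only [mul_assoc],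
        show a * a = z⁻¹ from (inv_eq_of_mul_eq_one_right hz3).symm]
    calc c * a * a * a * a * a * a * a = c * (a * a * a * a * a * a) * a := by simp only [mul_assoc]
      _ = c * (z⁻¹ * z⁻¹ * z⁻¹) * (z ^ 3 * c⁻¹) := by rw [e6, ha0]
      _ = 1 := by group
  obtain ⟨σ, s0, s1, s2⟩ : ∃ σ : Equiv.Perm (Fin (k + 1)), σ 0 = i ∧ σ i1 = j ∧ σ i2 = l := by
    have h01 : i1 ≠ 0 := by simp [i1, Fin.ext_iff]
    have h02 : i2 ≠ 0 := by simp [i2, Fin.ext_iff]
    have h12 : i2 ≠ i1 := by simp [i1, i2, Fin.ext_iff]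
    set σ1 : Equiv.Perm (Fin (k + 1)) := Equiv.swap 0 i
    set σ2 : Equiv.Perm (Fin (k + 1)) := Equiv.swap (σ1 i1) j
    have e1 : i ≠ σ1 i1 := fun e => h01 (σ1.injective (by rw [← e]; simp [σ1]))
    have e0' : σ2 (σ1 0) = i := by
      rw [show σ1 0 = i by simp [σ1]]
      exact Equiv.swap_apply_of_ne_of_ne e1 hij
    have e1' : σ2 (σ1 i1) = j := by simp [σ2]
    refine ⟨Equiv.swap (σ2 (σ1 i2)) l * σ2 * σ1, ?_, ?_, by simp⟩
    · rw [Equiv.Perm.mul_apply, Equiv.Perm.mul_apply]
      conv_lhs => rw [e0']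
      refine Equiv.swap_apply_of_ne_of_ne (fun e => h02 ?_) hil
      exact σ1.injective (σ2.injective (by rw [← e, e0']))
    · rw [Equiv.Perm.mul_apply, Equiv.Perm.mul_apply]
      conv_lhs => rw [e1']
      refine Equiv.swap_apply_of_ne_of_ne (fun e => h12 ?_) hjl
      exact σ1.injective (σ2.injective (by rw [← e, e1']))
  obtain ⟨y, hy⟩ := hp (spPerm σ)
  have := congrArg (fun g => y * g * y⁻¹) hbase
  simp only [seven] at this ⊢
  rw [mul_one, mul_inv_cancel] at this
  rw [← this]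
  calc _ = (y * Y (lv 0) * y⁻¹) * (y * Y (lv i1) * y⁻¹) * (y * Y (lv i2) * y⁻¹) *
        (y * Y (lv 0 + lv i1) * y⁻¹) * (y * Y (lv 0 + lv i2) * y⁻¹) * (y * Y (lv i1 + lv i2) * y⁻¹) *
        (y * Y (lv 0 + lv i1 + lv i2) * y⁻¹) := by
        simp only [hcY, hy, Matrix.mulVec_add, spPerm_lv, s0, s1, s2]
    _ = _ := by group

end CfsgLib.Lie.SpUniv
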